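import Mathlib

/-!
# Blichfeldt's sixty-degree lemma: definitions (helper25, for S4484)

* `act Φ g`   : the linear map of `Φ g` for a unitary representation `Φ : G →* unitary (V →L[ℂ] V)`.
* `cosAng W W'` : the cosine of the smallest angle between two subspaces, i.e. the supremum of
  `‖⟪w, w'⟫‖` over unit vectors `w ∈ W`, `w' ∈ W'` (`0` if one of them is `⊥`).
-/

set_option autoImplicit false

namespace Cfsg.Agent.Helper25.Bli

variable {G : Type*} [Group G] {V : Type*} [NormedAddCommGroup V] [InnerProductSpace ℂ V]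
  [FiniteDimensional ℂ V]

/-- the linear map underlying `Φ g` -/
noncomputable abbrev act (Φ : G →* unitary (V →L[ℂ] V)) (g : G) : V →ₗ[ℂ] V :=
  ((Φ g : V →L[ℂ] V) : V →ₗ[ℂ] V)

/-- the set of `‖⟪w, w'⟫‖` for unit vectors `w ∈ W`, `w' ∈ W'` -/
def cosSet (W W' : Submodule ℂ V) : Set ℝ :=
  {r | ∃ w ∈ W, ∃ w' ∈ W', ‖w‖ = 1 ∧ ‖w'‖ = 1 ∧ r = ‖inner ℂ w w'‖}

/-- cosine of the smallest angle between `W` and `W'` -/
noncomputable def cosAng (W W' : Submodule ℂ V) : ℝ := sSup (cosSet W W')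

end Cfsg.Agent.Helper25.Bli
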