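import Mathlib
import Cfsg.Agent.Helper25.Bli.Defs

/-! # Blichfeldt's lemma: basic facts on `act` (helper25, S4484) -/

set_option autoImplicit false

namespace Cfsg.Agent.Helper25.Bli

variable {G : Type*} [Group G] {V : Type*} [NormedAddCommGroup V] [InnerProductSpace ℂ V]
  [FiniteDimensional ℂ V]

theorem act_mul (Φ : G →* unitary (V →L[ℂ] V)) (g h : G) : act Φ (g * h) = act Φ g * act Φ h := by
  ext v
  simp [act, map_mul]

theorem act_one (Φ : G →* unitary (V →L[ℂ] V)) : act Φ 1 = 1 := by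
  ext v
  simp [act]

theorem act_pow (Φ : G →* unitary (V →L[ℂ] V)) (g : G) (k : ℕ) : act Φ (g ^ k) = act Φ g ^ k := by
  induction k with
  | zero => simp [act_one]
  | succ k ih => rw [pow_succ, act_mul, ih, pow_succ]

theorem act_inv_act (Φ : G →* unitary (V →L[ℂ] V)) (g : G) (v : V) :
    act Φ g⁻¹ (act Φ g v) = v := by
  have : act Φ g⁻¹ * act Φ g = 1 := by rw [← act_mul, inv_mul_cancel, act_one]
  exact congrFun (congrArg DFunLike.coe this) v

theorem act_injective (Φ : G →* unitary (V →L[ℂ] V)) (g : G) : Function.Injective (act Φ g) := by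
  intro a b hab
  have h4 : act Φ g⁻¹ (act Φ g a) = act Φ g⁻¹ (act Φ g b) := by rw [hab]
  rwa [act_inv_act, act_inv_act] at h4

/-- Conjugation by a unitary does not change the distance to a scalar. -/
theorem norm_conj_sub_smul' (u v : unitary (V →L[ℂ] V)) (c : ℂ) :
    ‖((u * v * u⁻¹ : unitary (V →L[ℂ] V)) : V →L[ℂ] V) - c • (1 : V →L[ℂ] V)‖
      = ‖(v : V →L[ℂ] V) - c • (1 : V →L[ℂ] V)‖ := by
  have h1 : ((u * v * u⁻¹ : unitary (V →L[ℂ] V)) : V →L[ℂ] V) - c • (1 : V →L[ℂ] V)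
      = (u : V →L[ℂ] V) * ((v : V →L[ℂ] V) - c • (1 : V →L[ℂ] V)) *
          ((u⁻¹ : unitary (V →L[ℂ] V)) : V →L[ℂ] V) := by
    have h2 : (u : V →L[ℂ] V) * ((u⁻¹ : unitary (V →L[ℂ] V)) : V →L[ℂ] V) = 1 := by
      rw [← Submonoid.coe_mul, mul_inv_cancel]; rfl
    rw [mul_sub, sub_mul, mul_smul_comm, mul_one, smul_mul_assoc, h2]
    rfl
  rw [h1, CStarRing.norm_mul_coe_unitary, CStarRing.norm_coe_unitary_mul]

end Cfsg.Agent.Helper25.Bli
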