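import Mathlib
import Cfsg.Agent.Helper25.Bli.Basic
import Cfsg.Agent.Helper34.BliL3a
import Cfsg.Agent.Helper34.BliL3b
import Cfsg.Agent.Helper65.BliL4aCore
import Cfsg.Agent.Helper10.BliL4b
import Cfsg.Agent.Helper10.BliFL
import Cfsg.Agent.Helper89.BliL1

set_option autoImplicit false
set_option linter.unusedSectionVars false
set_option linter.unusedVariables false

namespace Cfsg.Agent.Helper25.Bli

open Module Module.End

variable {G : Type*} [Group G] {V : Type*} [NormedAddCommGroup V] [InnerProductSpace ℂ V]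
  [FiniteDimensional ℂ V]

/-- the `α`-eigenspace of the conjugate `g x g⁻¹` -/
noncomputable abbrev cE (Φ : G →* unitary (V →L[ℂ] V)) (x : G) (α : ℂ) (g : G) : Submodule ℂ V :=
  eigenspace (act Φ (g * x * g⁻¹)) α

/-- (L4a) the contraction step (helper65's core + helper89's (L1) + helper34's (L3a), (L3b)) -/
theorem cosAng_lt_cosAng_map (u : unitary (V →L[ℂ] V)) (α : ℂ)
    (h : ‖(u : V →L[ℂ] V) - α • (1 : V →L[ℂ] V)‖ ≤ 1) (W W' : Submodule ℂ V)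
    (hW : W ≤ eigenspace ((u : V →L[ℂ] V) : V →ₗ[ℂ] V) α) (hW0 : W ≠ ⊥) (hW'0 : W' ≠ ⊥)
    (hWW' : W ⊓ W' = ⊥) :
    cosAng W W' < cosAng W' (W'.map ((u : V →L[ℂ] V) : V →ₗ[ℂ] V)) :=
  Cfsg.Agent.Helper65.Bli.cosAng_lt_cosAng_map_core
    (fun u hu α hα h w v hw hw1 hv1 => Cfsg.Agent.Helper89.Bli.norm_inner_ge u hu α hα h w v hw hw1 hv1)
    (fun W W' w w' hw hw' h1 h1' => Cfsg.Agent.Helper34.Bli.le_cosAng W W' w w' hw hw' h1 h1')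
    (fun W W' hW hW' => Cfsg.Agent.Helper34.Bli.exists_eq_cosAng W W' hW hW')
    (fun W W' h => Cfsg.Agent.Helper34.Bli.cosAng_lt_one W W' h)
    u α h W W' hW hW0 hW'0 hWW'

/-- the key step of (MX) -/
theorem mx_step [Finite G] (Φ : G →* unitary (V →L[ℂ] V)) (x : G) (α : ℂ)
    (h60 : ‖(Φ x : V →L[ℂ] V) - α • (1 : V →L[ℂ] V)‖ ≤ 1) (ℱ : Set (Submodule ℂ V))
    (h0 : ∀ W ∈ ℱ, W ≠ ⊥) (hinf : ∀ W ∈ ℱ, ∀ W' ∈ ℱ, W ≠ W' → W ⊓ W' = ⊥)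
    (hdich : ∀ W ∈ ℱ, ∀ g : G, W ≤ cE Φ x α g ∨ W ⊓ cE Φ x α g = ⊥)
    (hinv : ∀ g : G, ∀ W ∈ ℱ, W.map (act Φ g) ∈ ℱ)
    (W W' : Submodule ℂ V) (hW : W ∈ ℱ) (hW' : W' ∈ ℱ) (hne : W ≠ W')
    (hmax : ∀ A ∈ ℱ, ∀ B ∈ ℱ, A ≠ B → cosAng A B ≤ cosAng W W') (g : G) (hg : W ≤ cE Φ x α g) :
    W' ≤ cE Φ x α g ∨ cosAng W W' = 0 := by
  set u : unitary (V →L[ℂ] V) := Φ (g * x * g⁻¹) with hu
  have hu60 : ‖(u : V →L[ℂ] V) - α • (1 : V →L[ℂ] V)‖ ≤ 1 := by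
    have : u = Φ g * Φ x * (Φ g)⁻¹ := by rw [hu, map_mul, map_mul, map_inv]
    rw [this, norm_conj_sub_smul']
    exact h60
  have hlt := cosAng_lt_cosAng_map u α hu60 W W' hg (h0 W hW) (h0 W' hW') (hinf W hW W' hW' hne)
  have hmem : W'.map (act Φ (g * x * g⁻¹)) ∈ ℱ := hinv _ W' hW'
  have hst : W'.map (act Φ (g * x * g⁻¹)) = W' := by
    by_contra hne'
    have := hmax W' hW' _ hmem (fun h => hne' h.symm)
    exact absurd hlt (not_lt.mpr this)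
  rcases hdich W' hW' g with h | h
  · exact Or.inl h
  · right
    have horth : W' ⟂ eigenspace ((u : V →L[ℂ] V) : V →ₗ[ℂ] V) α :=
      Cfsg.Agent.Helper10.Bli.isOrtho_eigenspace_of_inf_eq_bot u α W' (le_of_eq hst) h
    apply Cfsg.Agent.Helper34.Bli.cosAng_eq_zero_of_isOrtho
    exact (horth.symm.mono_left hg)

/-- (MX) the maximal-pair argument. -/
theorem blichfeldt_of_flats [Finite G] (Φ : G →* unitary (V →L[ℂ] V))
    (hirr : ∀ W : Submodule ℂ V, (∀ g : G, W.map (act Φ g) ≤ W) → W = ⊥ ∨ W = ⊤)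
    (x : G) (α : ℂ) (h60 : ‖(Φ x : V →L[ℂ] V) - α • (1 : V →L[ℂ] V)‖ ≤ 1)
    (hns : eigenspace (act Φ x) α ≠ ⊤) (ℱ : Set (Submodule ℂ V)) (hfin : ℱ.Finite)
    (hne : ℱ.Nonempty) (h0 : ∀ W ∈ ℱ, W ≠ ⊥)
    (hinf : ∀ W ∈ ℱ, ∀ W' ∈ ℱ, W ≠ W' → W ⊓ W' = ⊥)
    (hdich : ∀ W ∈ ℱ, ∀ g : G, W ≤ cE Φ x α g ∨ W ⊓ cE Φ x α g = ⊥)
    (hsome : ∀ W ∈ ℱ, ∃ g : G, W ≤ cE Φ x α g)
    (hdet : ∀ W ∈ ℱ, ∀ W' ∈ ℱ, (∀ g : G, W ≤ cE Φ x α g ↔ W' ≤ cE Φ x α g) → W = W')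
    (hinv : ∀ g : G, ∀ W ∈ ℱ, W.map (act Φ g) ∈ ℱ)
    (htr : ∀ W ∈ ℱ, ∀ W' ∈ ℱ, ∃ g : G, W.map (act Φ g) = W') :
    (∃ W ∈ ℱ, ∃ W' ∈ ℱ, W ≠ W') ∧ (∀ W ∈ ℱ, ∀ W' ∈ ℱ, W ≠ W' → W ⟂ W') := by
  classical
  -- (a) two distinct members
  have h2 : ∃ W ∈ ℱ, ∃ W' ∈ ℱ, W ≠ W' := by
    by_contra hcon
    push Not at hcon
    obtain ⟨W, hW⟩ := hne
    have hWinv : ∀ g : G, W.map (act Φ g) ≤ W := by
      intro g
      exact le_of_eq (hcon _ (hinv g W hW) W hW)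
    rcases hirr W hWinv with h | h
    · exact h0 W hW h
    · obtain ⟨g, hg⟩ := hsome W hW
      rw [h] at hg
      apply hns
      rw [eq_top_iff]
      intro v _
      rw [Module.End.mem_eigenspace_iff]
      have h1 : (act Φ g) v ∈ cE Φ x α g := hg Submodule.mem_top
      rw [Module.End.mem_eigenspace_iff] at h1
      have h3 : act Φ (g * x * g⁻¹) ((act Φ g) v) = act Φ g (act Φ x v) := by
        have : act Φ (g * x * g⁻¹) * act Φ g = act Φ g * act Φ x := by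
          rw [← act_mul, ← act_mul]
          congr 1
          group
        exact congrFun (congrArg DFunLike.coe this) v
      rw [h3, ← map_smul] at h1
      exact act_injective Φ g h1
  refine ⟨h2, ?_⟩
  -- (b) a maximal pair
  set F : Finset (Submodule ℂ V) := hfin.toFinset with hF
  set pairs : Finset (Submodule ℂ V × Submodule ℂ V) :=
    (F ×ˢ F).filter (fun q => q.1 ≠ q.2) with hpairs
  have hpne : pairs.Nonempty := by
    obtain ⟨W, hW, W', hW', hWW'⟩ := h2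
    refine ⟨(W, W'), ?_⟩
    rw [hpairs, Finset.mem_filter, Finset.mem_product]
    exact ⟨⟨hfin.mem_toFinset.mpr hW, hfin.mem_toFinset.mpr hW'⟩, hWW'⟩
  obtain ⟨⟨W, W'⟩, hmem, hmaxq⟩ := Finset.exists_max_image pairs (fun q => cosAng q.1 q.2) hpne
  rw [hpairs, Finset.mem_filter, Finset.mem_product] at hmem
  obtain ⟨⟨hWF, hW'F⟩, hWW'⟩ := hmem
  have hW : W ∈ ℱ := hfin.mem_toFinset.mp hWF
  have hW' : W' ∈ ℱ := hfin.mem_toFinset.mp hW'F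
  have hWW'' : W ≠ W' := hWW'
  have hmax : ∀ A ∈ ℱ, ∀ B ∈ ℱ, A ≠ B → cosAng A B ≤ cosAng W W' := by
    intro A hA B hB hAB
    apply hmaxq (A, B)
    rw [hpairs, Finset.mem_filter, Finset.mem_product]
    exact ⟨⟨hfin.mem_toFinset.mpr hA, hfin.mem_toFinset.mpr hB⟩, hAB⟩
  have hmax' : ∀ A ∈ ℱ, ∀ B ∈ ℱ, A ≠ B → cosAng A B ≤ cosAng W' W := by
    intro A hA B hB hAB
    rw [Cfsg.Agent.Helper34.Bli.cosAng_comm W' W]
    exact hmax A hA B hB hAB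
  by_cases hzero : cosAng W W' = 0
  · intro A hA B hB hAB
    apply Cfsg.Agent.Helper34.Bli.isOrtho_of_cosAng_eq_zero
    apply le_antisymm
    · rw [← hzero]; exact hmax A hA B hB hAB
    · exact Cfsg.Agent.Helper34.Bli.cosAng_nonneg A B
  · exfalso
    apply hWW''
    apply hdet W hW W' hW'
    intro g
    constructor
    · intro hg
      rcases mx_step Φ x α h60 ℱ h0 hinf hdich hinv W W' hW hW' hWW'' hmax g hg with h | h
      · exact h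
      · exact absurd h hzero
    · intro hg
      rcases mx_step Φ x α h60 ℱ h0 hinf hdich hinv W' W hW' hW (Ne.symm hWW'') hmax' g hg
        with h | h
      · exact h
      · rw [Cfsg.Agent.Helper34.Bli.cosAng_comm] at h
        exact absurd h hzero

/-- (L4) **Blichfeldt's lemma**: an irreducible finite unitary group containing a non-scalar element
`x`, one of whose eigenvalues is within distance `1` (= 60 degrees) of all the others, is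
imprimitive: there is a transitive system of at least two pairwise orthogonal nonzero
subspaces. -/
theorem blichfeldt [Finite G] (Φ : G →* unitary (V →L[ℂ] V))
    (hirr : ∀ W : Submodule ℂ V, (∀ g : G, W.map (act Φ g) ≤ W) → W = ⊥ ∨ W = ⊤)
    (x : G) (α : ℂ) (hα : HasEigenvalue (act Φ x) α)
    (h60 : ‖(Φ x : V →L[ℂ] V) - α • (1 : V →L[ℂ] V)‖ ≤ 1)
    (hns : eigenspace (act Φ x) α ≠ ⊤) :
    ∃ 𝒲 : Set (Submodule ℂ V), (∃ W ∈ 𝒲, ∃ W' ∈ 𝒲, W ≠ W') ∧ (∀ W ∈ 𝒲, W ≠ ⊥) ∧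
      (∀ W ∈ 𝒲, ∀ W' ∈ 𝒲, W ≠ W' → W ⟂ W') ∧ (∀ g : G, ∀ W ∈ 𝒲, W.map (act Φ g) ∈ 𝒲) ∧
      (∀ W ∈ 𝒲, ∀ W' ∈ 𝒲, ∃ g : G, W.map (act Φ g) = W') := by
  obtain ⟨ℱ, hfin, hne, h0, hinf, hdich, hsome, hdet, hinv, htr⟩ :=
    Cfsg.Agent.Helper10.Bli.exists_flats Φ x α hα
  obtain ⟨h2, horth⟩ := blichfeldt_of_flats Φ hirr x α h60 hns ℱ hfin hne h0 hinf hdich hsome hdet
    hinv htr
  exact ⟨ℱ, h2, h0, horth, hinv, htr⟩

end Cfsg.Agent.Helper25.Bli
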