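import Mathlib
import Cfsg.Prelude.Def_Blocks
import Cfsg.Agent.Helper74.DegP
import Cfsg.Agent.Helper59.BliC2
import Cfsg.Agent.Helper59.BliC4
import Cfsg.Agent.Helper22.BliC3
import Cfsg.Agent.Helper22.BliC3p
import Cfsg.Agent.Helper76.CharBasic

set_option autoImplicit false
set_option linter.unusedSectionVars false
set_option linter.unusedVariables false

namespace Cfsg.Agent.Helper25.Bli

open Cfsg Module Module.End

theorem centralizer_pow_eq {G : Type*} [Group G] (y : G) (k : ℕ) (hk : k.Coprime (orderOf y)) :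
    Subgroup.centralizer ({y ^ k} : Set G) = Subgroup.centralizer ({y} : Set G) := by
  obtain ⟨j, hj⟩ := exists_pow_eq_self_of_coprime hk
  ext z
  simp only [Subgroup.mem_centralizer_iff, Set.mem_singleton_iff, forall_eq]
  constructor
  · intro h
    have h1 : Commute (y ^ k) z := h
    have h2 : Commute ((y ^ k) ^ j) z := h1.pow_left j
    rw [hj] at h2
    exact h2
  · intro h
    have h1 : Commute y z := h
    exact h1.pow_left k

theorem memLocalIdeal_zero' (M : Ideal AlgInt) (hM : M ≠ ⊤) : MemLocalIdeal M 0 :=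
  ⟨0, 1, M.zero_mem, fun h => hM ((Ideal.eq_top_iff_one M).mpr h), by simp⟩

/-- the character-theoretic part of S4484: an element `y` of order `p` with `p ∤ |cl y|` has at most
`gcd (χ(1), |cl y|)` distinct eigenvalues in a representation affording a character `χ` of the
principal `p`-block. -/
theorem char_main {G : Type*} [Group G] [Finite G] {M : Ideal AlgInt} {p : ℕ} (hM : IsPModular p M)
    (χ : IrrCharacter G) (hχ : χ ∈ principalBlock M G) (n : ℕ)
    (ρ : Representation ℂ G (Fin n → ℂ)) (hρ : ρ.character = (χ : G → ℂ)) (y : G)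
    (hy : orderOf y = p) (hk : ¬ p ∣ (Subgroup.centralizer ({y} : Set G)).index) :
    ∃ S : Finset ℂ,
      S.card ≤ Nat.gcd (charDegree (χ : G → ℂ)) (Subgroup.centralizer ({y} : Set G)).index ∧
      ∀ β : ℂ, HasEigenvalue (ρ y) β → β ∈ S := by
  classical
  have hp : p.Prime := hM.1
  have hMtop : M ≠ ⊤ := hM.2.1.ne_top
  set ζ : ℂ := Complex.exp (2 * Real.pi * Complex.I / p) with hζdef
  have hζ : IsPrimitiveRoot ζ p := Complex.isPrimitiveRoot_exp p hp.ne_zero
  set f : End ℂ (Fin n → ℂ) := ρ y with hfdef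
  have hf : f ^ p = 1 := by
    rw [hfdef, ← map_pow, ← hy, pow_orderOf_eq_one, map_one]
  -- the degree
  have hNn : charDegree (χ : G → ℂ) = n := by
    rw [← hρ]; exact Cfsg.Agent.Helper76.charDegree_character n ρ
  set N : ℕ := charDegree (χ : G → ℂ) with hN
  have hNpos : 0 < N := by
    have := @Cfsg.Agent.Helper74.charDegree_pos' G _ (Fintype.ofFinite G) χ
    exact this
  have hχ1 : (χ : G → ℂ) 1 = (N : ℂ) := by
    rw [← hρ, Representation.char_one, hNn]
    simp
  set kk : ℕ := (Subgroup.centralizer ({y} : Set G)).index with hkk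
  set d : ℕ := Nat.gcd N kk with hd
  have hdN : d ∣ N := Nat.gcd_dvd_left N kk
  have hdpos : 0 < d := Nat.gcd_pos_of_pos_left kk hNpos
  obtain ⟨N', hN'⟩ := hdN
  have hN'pos : 0 < N' := by
    rcases Nat.eq_zero_or_pos N' with h | h
    · rw [h, mul_zero] at hN'; omega
    · exact h
  have hNC : (N : ℂ) = (d : ℂ) * (N' : ℂ) := by rw [hN']; push_cast; ring
  have hdC : (d : ℂ) ≠ 0 := by exact_mod_cast hdpos.ne'
  have hN'C : (N' : ℂ) ≠ 0 := by exact_mod_cast hN'pos.ne'
  have hNC0 : (N : ℂ) ≠ 0 := by exact_mod_cast hNpos.ne'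
  -- the numbers β k
  set β : ℕ → ℂ := fun k => (χ : G → ℂ) (y ^ k) * (d : ℂ) / (N : ℂ) with hβdef
  have hβ : ∀ k < p, IsIntegral ℤ (β k) ∧ MemLocalIdeal M (β k - (d : ℂ)) := by
    intro k hkp
    rcases Nat.eq_zero_or_pos k with rfl | hk0
    · have h0 : β 0 = (d : ℂ) := by
        simp only [hβdef, pow_zero]
        rw [hχ1]
        field_simp
      rw [h0, sub_self]
      refine ⟨?_, memLocalIdeal_zero' M hMtop⟩
      have : IsIntegral ℤ ((d : ℤ) : ℂ) := isIntegral_algebraMap (R := ℤ) (A := ℂ) (x := (d : ℤ))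
      simpa using this
    · have hcop : k.Coprime (orderOf y) := by
        rw [hy]
        exact Nat.Coprime.symm ((Nat.Prime.coprime_iff_not_dvd hp).mpr
          (fun h => absurd (Nat.le_of_dvd hk0 h) (by omega)))
      have hcen := centralizer_pow_eq y k hcop
      have hk' : ¬ p ∣ (Subgroup.centralizer ({y ^ k} : Set G)).index := by
        rw [hcen]; exact hk
      have := Cfsg.Agent.Helper59.Bli.beta_spec hM χ hχ (y ^ k) hk'
      rw [hcen] at this
      exact this
  -- the multiplicities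
  set m : ℕ → ℕ := fun j => finrank ℂ (eigenspace f (ζ ^ j)) with hmdef
  have htr : ∀ k : ℕ, LinearMap.trace ℂ (Fin n → ℂ) (f ^ k) = (N' : ℂ) * β k := by
    intro k
    have h1 : LinearMap.trace ℂ (Fin n → ℂ) (f ^ k) = (χ : G → ℂ) (y ^ k) := by
      rw [hfdef, ← map_pow, ← hρ]
      rfl
    rw [h1]
    simp only [hβdef]
    rw [hNC]
    field_simp
  have hdiv : ∀ j : ℕ, N' ∣ m j := by
    intro j
    have hc : ((ζ ^ j)⁻¹) ^ p = 1 := by
      rw [inv_pow, ← pow_mul, mul_comm, pow_mul, hζ.pow_eq_one, one_pow, inv_one]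
    have hcj : (ζ ^ j) ^ p = 1 := by
      rw [← pow_mul, mul_comm, pow_mul, hζ.pow_eq_one, one_pow]
    have h3 := Cfsg.Agent.Helper22.Bli.finrank_eigenspace_mul f p hp.pos hf (ζ ^ j) hcj
    apply Cfsg.Agent.Helper59.Bli.dvd_of_congr hM ((ζ ^ j)⁻¹) hc d N' (m j) β hβ
    rw [Finset.mul_sum]
    simp only [hmdef]
    rw [h3]
    refine Finset.sum_congr rfl (fun k _ => ?_)
    rw [htr k]
    ring
  have hsum : ∑ j ∈ Finset.range p, m j = N' * d := by
    have := Cfsg.Agent.Helper22.Bli.sum_finrank_eigenspace f p hp.pos hf ζ hζ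
    simp only [hmdef]
    rw [this, Module.finrank_fin_fun, ← hNn, hN', mul_comm]
  set J : Finset ℕ := (Finset.range p).filter (fun j => m j ≠ 0) with hJ
  have hJcard : J.card ≤ d := by
    have h1 : J.card * N' ≤ ∑ j ∈ J, m j := by
      rw [← smul_eq_mul, ← Finset.sum_const]
      apply Finset.sum_le_sum
      intro j hj
      have hj' := (Finset.mem_filter.mp hj).2
      exact Nat.le_of_dvd (Nat.pos_of_ne_zero hj') (hdiv j)
    have h2 : ∑ j ∈ J, m j ≤ ∑ j ∈ Finset.range p, m j :=
      Finset.sum_le_sum_of_subset (Finset.filter_subset _ _)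
    have h3 : J.card * N' ≤ d * N' := by
      calc J.card * N' ≤ ∑ j ∈ Finset.range p, m j := h1.trans h2
        _ = d * N' := by rw [hsum, mul_comm]
    exact Nat.le_of_mul_le_mul_right h3 hN'pos
  refine ⟨J.image (fun j => ζ ^ j), Finset.card_image_le.trans hJcard, ?_⟩
  intro b hb
  obtain ⟨v, hv⟩ := hb.exists_hasEigenvector
  have hbp : b ^ p = 1 := by
    have h1 := hv.pow_apply p
    rw [hf] at h1
    have h2 : (1 : ℂ) • v = b ^ p • v := by simpa using h1
    have h3 : ((1 : ℂ) - b ^ p) • v = 0 := by rw [sub_smul, h2, sub_self]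
    rcases smul_eq_zero.mp h3 with h | h
    · exact (sub_eq_zero.mp h).symm
    · exact absurd h hv.2
  have : NeZero p := ⟨hp.ne_zero⟩
  obtain ⟨j, hjp, hjb⟩ := hζ.eq_pow_of_pow_eq_one hbp
  rw [Finset.mem_image]
  refine ⟨j, ?_, hjb⟩
  rw [hJ, Finset.mem_filter, Finset.mem_range]
  refine ⟨hjp, ?_⟩
  simp only [hmdef]
  intro h0
  have hbot : eigenspace f (ζ ^ j) = ⊥ := by
    rw [← Submodule.finrank_eq_zero]; exact h0
  rw [hjb] at hbot
  exact hb hbot

end Cfsg.Agent.Helper25.Bli
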