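import Mathlib
import Cfsg.Agent.Helper25.Bli.Basic
import Cfsg.Agent.Helper25.Bli.Blichfeldt
import Cfsg.Agent.Helper81.BliL2
import Cfsg.Agent.Helper81.BliL5a
import Cfsg.Agent.Helper89.BliL5b
import Cfsg.Agent.Helper65.BliL6
import Cfsg.Agent.Helper65.BliL7
import Cfsg.Agent.Helper97.JordanJA1

set_option autoImplicit false
set_option linter.unusedSectionVars false
set_option linter.unusedVariables false

namespace Cfsg.Agent.Helper25.Bli

open Module Module.End

variable {G : Type*} [Group G] {V : Type*} [NormedAddCommGroup V] [InnerProductSpace ℂ V]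
  [FiniteDimensional ℂ V]

theorem six_pow_ne_prime (t p : ℕ) (hp : p.Prime) : 6 ^ t ≠ p := by
  intro h
  rcases Nat.eq_zero_or_pos t with rfl | ht
  · simp at h
    exact hp.one_lt.ne' h.symm
  · have h2 : 2 ∣ p := by
      rw [← h]
      exact dvd_pow (by norm_num) ht.ne'
    have h3 : 3 ∣ p := by
      rw [← h]
      exact dvd_pow (by norm_num) ht.ne'
    have e2 := (Nat.prime_dvd_prime_iff_eq Nat.prime_two hp).mp h2
    have e3 := (Nat.prime_dvd_prime_iff_eq Nat.prime_three hp).mp h3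
    omega

/-- the linear-group part of S4484 -/
theorem linear_main [Finite G] [IsSimpleGroup G] (Φ : G →* unitary (V →L[ℂ] V))
    (hinj : Function.Injective Φ)
    (hirr : ∀ W : Submodule ℂ V, (∀ g : G, W.map (act Φ g) ≤ W) → W = ⊥ ∨ W = ⊤)
    (hZ : ∀ z : G, (∀ g : G, g * z = z * g) → z = 1)
    (y : G) (p : ℕ) (hp : p.Prime) (hy : orderOf y = p) (S : Finset ℂ)
    (hS : ∀ β : ℂ, HasEigenvalue (act Φ y) β → β ∈ S) (m : ℕ) (hm : S.card ≤ m)
    (hpm : 6 ^ (m - 1) ≤ p) : p ≤ m := by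
  classical
  have hy1 : y ≠ 1 := by
    intro h
    rw [h, orderOf_one] at hy
    exact hp.one_lt.ne' hy.symm
  -- V is nontrivial
  have hVnt : Nontrivial V := by
    by_contra hnt
    rw [not_nontrivial_iff_subsingleton] at hnt
    apply hy1
    apply hinj
    apply Subtype.ext
    ext v
    exact Subsingleton.elim _ _
  obtain ⟨s₁, hs₁⟩ := Module.End.exists_eigenvalue (act Φ y)
  -- eigenvalues have norm one
  have hnorm : ∀ (g : G) (β : ℂ), HasEigenvalue (act Φ g) β → ‖β‖ = 1 := by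
    intro g β hβ
    obtain ⟨v, hv⟩ := hβ.exists_hasEigenvector
    exact Cfsg.Agent.Helper97.JordanJA1.norm_eq_one_of_eigen (Φ g) hv.2 hv.apply_eq_smul
  have hs₁n : ‖s₁‖ = 1 := hnorm y s₁ hs₁
  have hs₁0 : s₁ ≠ 0 := by
    intro h
    rw [h, norm_zero] at hs₁n
    exact zero_ne_one hs₁n
  set S' : Finset ℂ := S.filter (fun β => HasEigenvalue (act Φ y) β) with hS'
  have hs₁S' : s₁ ∈ S' := by
    rw [hS', Finset.mem_filter]
    exact ⟨hS s₁ hs₁, hs₁⟩
  set T : Finset ℂ := (S'.erase s₁).image (fun s => s / s₁) with hT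
  have hTcard : T.card ≤ m - 1 := by
    calc T.card ≤ (S'.erase s₁).card := Finset.card_image_le
      _ = S'.card - 1 := Finset.card_erase_of_mem hs₁S'
      _ ≤ S.card - 1 := Nat.sub_le_sub_right (Finset.card_filter_le _ _) 1
      _ ≤ m - 1 := Nat.sub_le_sub_right hm 1
  have hTn : ∀ z ∈ T, ‖z‖ = 1 := by
    intro z hz
    rw [hT, Finset.mem_image] at hz
    obtain ⟨s, hs, rfl⟩ := hz
    have hs' := (Finset.mem_filter.mp (Finset.mem_of_mem_erase hs)).2
    rw [norm_div, hnorm y s hs', hs₁n, div_one]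
  obtain ⟨k, hk1, hkle, hk⟩ := Cfsg.Agent.Helper65.Bli.exists_pow_close T hTn
  have h6 : 6 ^ T.card ≤ 6 ^ (m - 1) := Nat.pow_le_pow_right (by norm_num) hTcard
  have hkp : k < p := by
    have h1 : k ≤ p := hkle.trans (h6.trans hpm)
    rcases Nat.lt_or_ge k p with h | h
    · exact h
    · exfalso
      have hkeq : k = p := le_antisymm h1 h
      have : 6 ^ T.card = p := by
        apply le_antisymm (h6.trans hpm)
        rw [← hkeq]; exact hkle
      exact six_pow_ne_prime _ p hp this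
  set x : G := y ^ k with hx
  have hx1 : x ≠ 1 := by
    intro h
    have := orderOf_dvd_of_pow_eq_one h
    rw [hy] at this
    exact absurd (Nat.le_of_dvd (by omega) this) (by omega)
  have hactx : act Φ x = act Φ y ^ k := act_pow Φ y k
  set α : ℂ := s₁ ^ k with hα
  have hαe : HasEigenvalue (act Φ x) α := by
    obtain ⟨v, hv⟩ := hs₁.exists_hasEigenvector
    apply Module.End.hasEigenvalue_of_hasEigenvector (x := v)
    rw [hactx]
    exact hv.pow_apply k |> fun h => ⟨by
      rw [Module.End.mem_eigenspace_iff]; exact h, hv.2⟩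
  -- the sixty degree property
  have h60 : ‖(Φ x : V →L[ℂ] V) - α • (1 : V →L[ℂ] V)‖ ≤ 1 := by
    apply Cfsg.Agent.Helper81.Bli.norm_sub_smul_le_one
    intro β hβ
    have hβ' : HasEigenvalue (act Φ y ^ k) β := by
      rw [← hactx]; exact hβ
    obtain ⟨s, hs, hsk⟩ := Cfsg.Agent.Helper65.Bli.exists_eigenvalue_pow_eq (act Φ y) k (by omega) β hβ'
    by_cases hss : s = s₁
    · rw [← hsk, hss, hα, sub_self, norm_zero]
      exact zero_le_one
    · have hsT : s / s₁ ∈ T := by
        rw [hT, Finset.mem_image]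
        refine ⟨s, ?_, rfl⟩
        rw [Finset.mem_erase]
        refine ⟨hss, ?_⟩
        rw [hS', Finset.mem_filter]
        exact ⟨hS s hs, hs⟩
      have h1 := hk _ hsT
      have h2 : β - α = s₁ ^ k * ((s / s₁) ^ k - 1) := by
        rw [← hsk, hα, div_pow]
        field_simp
      rw [h2, norm_mul, norm_pow, hs₁n, one_pow, one_mul]
      exact h1
  -- x is not a scalar
  have hns : eigenspace (act Φ x) α ≠ ⊤ := by
    intro htop
    apply hx1
    apply hZ
    intro g
    apply hinj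
    rw [map_mul, map_mul]
    apply Subtype.ext
    apply ContinuousLinearMap.ext
    intro v
    have hxv : ∀ w : V, (Φ x : V →L[ℂ] V) w = α • w := by
      intro w
      have : w ∈ eigenspace (act Φ x) α := by rw [htop]; exact Submodule.mem_top
      exact Module.End.mem_eigenspace_iff.mp this
    show (Φ g : V →L[ℂ] V) ((Φ x : V →L[ℂ] V) v) = (Φ x : V →L[ℂ] V) ((Φ g : V →L[ℂ] V) v)
    rw [hxv, hxv, map_smul]
  obtain ⟨𝒲, h2, h0, horth, hinv, htr⟩ := blichfeldt Φ hirr x α hαe h60 hns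
  obtain ⟨W, hW, hmv⟩ := Cfsg.Agent.Helper81.Bli.exists_moved Φ 𝒲 h2 hinv htr y hy1
  have hall : ∀ ζ : ℂ, ζ ^ p = 1 → ζ ∈ S := fun ζ hζ =>
    hS ζ (Cfsg.Agent.Helper89.Bli.hasEigenvalue_of_moved Φ 𝒲 h0 horth hinv y p hp hy W hW hmv ζ hζ)
  have hsub : Polynomial.nthRootsFinset p (1 : ℂ) ⊆ S := by
    intro ζ hζ
    rw [Polynomial.mem_nthRootsFinset hp.pos] at hζ
    exact hall ζ hζ
  have hcard : (Polynomial.nthRootsFinset p (1 : ℂ)).card = p :=
    (Complex.isPrimitiveRoot_exp p hp.ne_zero).card_nthRootsFinset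
  calc p = (Polynomial.nthRootsFinset p (1 : ℂ)).card := hcard.symm
    _ ≤ S.card := Finset.card_le_card hsub
    _ ≤ m := hm

end Cfsg.Agent.Helper25.Bli
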