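import Mathlib
import Cfsg.Agent.Helper25.Bli.LinMain
import Cfsg.Agent.Helper25.Bli.CharMain
import Cfsg.Agent.Helper34.BliC1
import Cfsg.Agent.Helper34.BliG1
import Cfsg.Agent.Helper34.BliG2
import Cfsg.Agent.Helper89.BliU
import Cfsg.Agent.Helper74.DefectZero
import Cfsg.Agent.Helper79.CharBasic
import Cfsg.Agent.Helper79.Linear

set_option autoImplicit false
set_option linter.unusedSectionVars false
set_option linter.unusedVariables false

namespace Cfsg.Agent.Helper25.Bli

open Cfsg Module Module.End

/-- `g < 6 ^ (g - 1)` for `2 ≤ g` -/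
theorem lt_six_pow (g : ℕ) (hg : 2 ≤ g) : g < 6 ^ (g - 1) := by
  obtain ⟨k, rfl⟩ : ∃ k, g = k + 2 := ⟨g - 2, by omega⟩
  have h : k + 2 - 1 = k + 1 := by omega
  rw [h]
  induction k with
  | zero => norm_num
  | succ k ih =>
    have := ih (by omega) (by omega)
    calc k + 1 + 2 < 6 ^ (k + 1) + 6 ^ (k + 1) := by
          have : 1 ≤ 6 ^ (k + 1) := Nat.one_le_pow _ _ (by norm_num)
          omega
      _ ≤ 6 ^ (k + 1 + 1) := by rw [pow_succ 6 (k + 1)]; omega

/-- a simple group whose order is divisible by `p` but is not `p` has trivial centre -/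
theorem center_trivial {G : Type*} [Group G] [Finite G] [IsSimpleGroup G] (p : ℕ) (hp : p.Prime)
    (hpG : p ∣ Nat.card G) (hne : Nat.card G ≠ p) (z : G) (hz : ∀ g : G, g * z = z * g) : z = 1 := by
  have hnorm : (Subgroup.center G).Normal := inferInstance
  rcases hnorm.eq_bot_or_eq_top with h | h
  · have : z ∈ Subgroup.center G := by
      rw [Subgroup.mem_center_iff]
      exact hz
    rw [h, Subgroup.mem_bot] at this
    exact this
  · exfalso
    have hcomm : ∀ a b : G, a * b = b * a := by
      intro a b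
      have : b ∈ Subgroup.center G := by rw [h]; exact Subgroup.mem_top b
      exact (Subgroup.mem_center_iff.mp this a)
    let _ : CommGroup G := { (inferInstance : Group G) with mul_comm := hcomm }
    have hprime : (Nat.card G).Prime := IsSimpleGroup.prime_card
    have := (Nat.prime_dvd_prime_iff_eq hp hprime).mp hpG
    exact hne this.symm

/-- **S4484** -/
theorem brauer_burnside {G : Type*} [Group G] [Finite G] [IsSimpleGroup G] (p q a b g₀ : ℕ) (hp : p.Prime)
    (hq : q.Prime) (hpq : p ≠ q) (ha : 0 < a) (hg : Nat.card G = p ^ a * q ^ b * g₀)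
    (hcop : ¬ p ∣ g₀) (hcoq : ¬ q ∣ g₀) (hne : Nat.card G ≠ p) : p < 6 ^ (g₀ - 1) := by
  classical
  by_contra hlt
  rw [not_lt] at hlt
  have : Fact p.Prime := ⟨hp⟩
  let _ : Fintype G := Fintype.ofFinite G
  have hpG : p ∣ Nat.card G := by
    rw [hg]
    exact Dvd.dvd.mul_right (Dvd.dvd.mul_right (dvd_pow_self p ha.ne') _) _
  have hZ := center_trivial (G := G) p hp hpG hne
  have hg₀ : 0 < g₀ := by
    rcases Nat.eq_zero_or_pos g₀ with h | h
    · rw [h, mul_zero] at hg
      have : 0 < Nat.card G := Nat.card_pos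
      omega
    · exact h
  obtain ⟨y, hy, hk⟩ := Cfsg.Agent.Helper34.Bli.exists_elt (G := G) p hpG
  obtain ⟨M, hM⟩ := Cfsg.Agent.Helper74.exists_isPModular p hp
  obtain ⟨χ, hχ, hχ1, hqχ, -⟩ := Cfsg.Agent.Helper34.Bli.exists_principal_char (G := G) hM q hq y (by rw [hy])
  obtain ⟨n, ρ, hirr, hρ⟩ := χ.2
  obtain ⟨S, hScard, hS⟩ := char_main hM χ hχ n ρ hρ y hy hk
  have hgcd : Nat.gcd (charDegree (χ : G → ℂ)) (Subgroup.centralizer ({y} : Set G)).index ∣ g₀ := by
    apply Cfsg.Agent.Helper34.Bli.gcd_dvd_cofactor p q a b g₀ _ _ hp hq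
    · rw [← hg]; exact Cfsg.Agent.Helper74.charDegree_dvd_card χ
    · exact hqχ
    · rw [← hg]; exact Subgroup.index_dvd_card _
    · exact hk
  have hSg : S.card ≤ g₀ := hScard.trans (Nat.le_of_dvd hg₀ hgcd)
  obtain ⟨Φ, T, hT⟩ := Cfsg.Agent.Helper89.Bli.exists_unitary_conj n ρ
  -- transfer of eigenvalues
  have hS' : ∀ β : ℂ, HasEigenvalue (act Φ y) β → β ∈ S := by
    intro β hβ
    apply hS
    obtain ⟨w, hw⟩ := hβ.exists_hasEigenvector
    apply Module.End.hasEigenvalue_of_hasEigenvector (x := T.symm w)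
    refine ⟨?_, ?_⟩
    · rw [Module.End.mem_eigenspace_iff]
      apply T.injective
      rw [← hT, LinearEquiv.apply_symm_apply, map_smul, LinearEquiv.apply_symm_apply]
      exact hw.apply_eq_smul
    · intro h0
      apply hw.2
      have := congrArg T h0
      rwa [LinearEquiv.apply_symm_apply, map_zero] at this
  -- transfer of irreducibility
  have hirr' : ∀ W : Submodule ℂ (EuclideanSpace ℂ (Fin n)),
      (∀ g : G, W.map (act Φ g) ≤ W) → W = ⊥ ∨ W = ⊤ := by
    intro W hW
    let σ : Subrepresentation ρ := ⟨W.comap (T : (Fin n → ℂ) →ₗ[ℂ] EuclideanSpace ℂ (Fin n)), by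
      intro g v hv
      rw [Submodule.mem_comap] at hv ⊢
      have h1 : T (ρ g v) = (Φ g : EuclideanSpace ℂ (Fin n) →L[ℂ] EuclideanSpace ℂ (Fin n)) (T v) :=
        (hT g v).symm
      show T (ρ g v) ∈ W
      rw [h1]
      exact hW g (Submodule.mem_map_of_mem hv)⟩
    rcases eq_bot_or_eq_top σ with h | h
    · left
      rw [Submodule.eq_bot_iff]
      intro w hw
      have h1 : T.symm w ∈ σ.toSubmodule := by
        show T.symm w ∈ W.comap (T : (Fin n → ℂ) →ₗ[ℂ] EuclideanSpace ℂ (Fin n))
        rw [Submodule.mem_comap]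
        show T (T.symm w) ∈ W
        rw [LinearEquiv.apply_symm_apply]; exact hw
      rw [h] at h1
      have h2 : T.symm w = 0 := h1
      have := congrArg T h2
      rwa [LinearEquiv.apply_symm_apply, map_zero] at this
    · right
      rw [Submodule.eq_top_iff']
      intro w
      have h1 : T.symm w ∈ σ.toSubmodule := by
        rw [h]; trivial
      have h2 : T (T.symm w) ∈ W := h1
      rwa [LinearEquiv.apply_symm_apply] at h2
  -- faithfulness
  have hinj : Function.Injective Φ := by
    rw [injective_iff_map_eq_one]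
    intro g hg1
    have hρg : ρ g = 1 := by
      apply LinearMap.ext
      intro v
      apply T.injective
      rw [← hT, hg1]
      rfl
    have hker : (MonoidHom.ker ρ).Normal := MonoidHom.normal_ker ρ
    rcases hker.eq_bot_or_eq_top with h | h
    · have : g ∈ MonoidHom.ker ρ := MonoidHom.mem_ker.mpr hρg
      rw [h, Subgroup.mem_bot] at this
      exact this
    · exfalso
      have hall : ∀ g : G, ρ g = 1 := by
        intro g
        have : g ∈ MonoidHom.ker ρ := by rw [h]; exact Subgroup.mem_top g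
        exact MonoidHom.mem_ker.mp this
      have hconst : ∀ g : G, (χ : G → ℂ) g = (n : ℂ) := by
        intro g
        rw [← hρ]
        show LinearMap.trace ℂ _ (ρ g) = _
        rw [hall g]
        simp
      have hne1 : χ ≠ Cfsg.Agent.Helper79.principalIrr G := by
        intro h
        apply hχ1
        rw [h]
        rfl
      have h0 := Cfsg.Agent.Helper79.classInner_irr_ne hne1
      unfold classInner at h0
      have hsum : ∑ g : G, (χ : G → ℂ) g * (starRingEnd ℂ) ((Cfsg.Agent.Helper79.principalIrr G : G → ℂ) g)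
          = (Nat.card G : ℂ) * (n : ℂ) := by
        have : ∀ g : G, (χ : G → ℂ) g * (starRingEnd ℂ) ((Cfsg.Agent.Helper79.principalIrr G : G → ℂ) g)
            = (n : ℂ) := by
          intro g
          rw [hconst g]
          show (n : ℂ) * (starRingEnd ℂ) (1 : ℂ) = n
          simp
        rw [Finset.sum_congr rfl (fun g _ => this g), Finset.sum_const, Finset.card_univ,
          Nat.card_eq_fintype_card]
        simp
      rw [hsum] at h0
      have hn0 : (n : ℂ) ≠ 0 := by
        have hpos := @Cfsg.Agent.Helper74.charDegree_pos' G _ (Fintype.ofFinite G) χ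
        have hNn : charDegree (χ : G → ℂ) = n := by
          rw [← hρ]; exact Cfsg.Agent.Helper76.charDegree_character n ρ
        rw [hNn] at hpos
        exact_mod_cast hpos.ne'
      have hc : (Nat.card G : ℂ) ≠ 0 := Cfsg.Agent.Helper79.card_ne_zero_complex
      have : (Nat.card G : ℂ)⁻¹ * ((Nat.card G : ℂ) * (n : ℂ)) = n := by
        field_simp
      rw [this] at h0
      exact hn0 h0
  have hle := linear_main Φ hinj hirr' hZ y p hp hy S hS' g₀ hSg hlt
  rcases Nat.lt_or_ge g₀ 2 with h | h
  · have : g₀ = 1 := by omega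
    rw [this] at hle
    exact absurd hp.one_lt (by omega)
  · have := lt_six_pow g₀ h
    omega

end Cfsg.Agent.Helper25.Bli
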